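import Mathlib

/-!
# The cartesian square of a glueing pair after a flat base change
-/

set_option autoImplicit false

universe u

open scoped TensorProduct

noncomputable section

namespace GrothLib.GlueTors21

variable {A A' : Type u} [CommRing A] [CommRing A'] [Algebra A A'] (t : A)

theorem powers_map (n : ℕ) : algebraMap A A' (t ^ n) = algebraMap A A' t ^ n := map_pow _ _ _

/-- The comparison of localisations. -/
def awayAlgHom : Localization.Away t →ₐ[A] Localization.Away (algebraMap A A' t) :=
  { Localization.awayMap (algebraMap A A') t with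
    commutes' := fun a => (IsLocalization.map_eq _ a).trans
      (IsScalarTower.algebraMap_apply A A' (Localization.Away (algebraMap A A' t)) a).symm }

/-- The second comparison. -/
def incAlgHom : A' →ₐ[A] Localization.Away (algebraMap A A' t) := IsScalarTower.toAlgHom A A' _

variable (hq : ∀ m : ℕ, Function.Bijective
    (Ideal.quotientMap (Ideal.map (algebraMap A A') (Ideal.span {t} ^ m)) (algebraMap A A') Ideal.le_comap_map))
  (htor : ∀ a' : A', (∃ m : ℕ, algebraMap A A' t ^ m * a' = 0) →
    ∃! a : A, (∃ m : ℕ, t ^ m * a = 0) ∧ algebraMap A A' a = a')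

include htor in
theorem base_injective (a : A) (h₁ : algebraMap A (Localization.Away t) a = 0) (h₂ : algebraMap A A' a = 0) :
    a = 0 := by
  obtain ⟨⟨_, m, rfl⟩, hm⟩ := (IsLocalization.map_eq_zero_iff (Submonoid.powers t) _ a).1 h₁
  obtain ⟨b, -, hb⟩ := htor 0 ⟨0, mul_zero _⟩
  rw [hb a ⟨⟨m, hm⟩, h₂⟩, hb 0 ⟨⟨0, mul_zero _⟩, map_zero _⟩]

include hq htor in
theorem base_exists (x : Localization.Away t) (y : A') (h : awayAlgHom t x = incAlgHom t y) :
    ∃ a : A, algebraMap A (Localization.Away t) a = x ∧ algebraMap A A' a = y := by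
  obtain ⟨⟨c, ⟨_, n, rfl⟩⟩, hc⟩ := IsLocalization.surj (Submonoid.powers t) x
  simp only at hc
  have h1 : algebraMap A' (Localization.Away (algebraMap A A' t)) (algebraMap A A' c) =
      algebraMap A' (Localization.Away (algebraMap A A' t)) (algebraMap A A' t ^ n * y) := by
    have := congrArg (awayAlgHom (A' := A') t) hc
    rw [map_mul, AlgHom.commutes, AlgHom.commutes, h] at this
    rw [IsScalarTower.algebraMap_apply A A' (Localization.Away (algebraMap A A' t)),
      IsScalarTower.algebraMap_apply A A' (Localization.Away (algebraMap A A' t))] at this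
    rw [← this, map_mul, powers_map, mul_comm]
    rfl
  obtain ⟨⟨_, m, rfl⟩, hm⟩ := (IsLocalization.eq_iff_exists (Submonoid.powers (algebraMap A A' t)) _).1 h1
  simp only at hm
  have h2 : algebraMap A A' (t ^ m * c) = algebraMap A A' t ^ (m + n) * y := by
    rw [map_mul, powers_map, hm, pow_add, mul_assoc]
  have h3 : t ^ m * c ∈ Ideal.span {t} ^ (m + n) := by
    refine Ideal.Quotient.eq_zero_iff_mem.1 ((hq (m + n)).1 ?_)
    rw [map_zero]
    show Ideal.Quotient.mk _ (algebraMap A A' (t ^ m * c)) = 0
    rw [h2, Ideal.Quotient.eq_zero_iff_mem]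
    refine Ideal.mul_mem_right _ _ ?_
    rw [← powers_map]
    exact Ideal.mem_map_of_mem _ (Ideal.pow_mem_pow (Ideal.mem_span_singleton_self t) _)
  rw [Ideal.span_singleton_pow, Ideal.mem_span_singleton] at h3
  obtain ⟨a, ha⟩ := h3
  obtain ⟨b, ⟨⟨l, hl⟩, hb⟩, -⟩ := htor (y - algebraMap A A' a) ⟨m + n, by
    rw [mul_sub, ← h2, ha, map_mul, powers_map, sub_self]⟩
  refine ⟨a + b, ?_, by rw [map_add, hb, add_sub_cancel]⟩
  have hu : IsUnit (algebraMap A (Localization.Away t) t) := IsLocalization.Away.algebraMap_isUnit t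
  have hb0 : algebraMap A (Localization.Away t) b = 0 :=
    (IsLocalization.map_eq_zero_iff (Submonoid.powers t) _ b).2 ⟨⟨t ^ l, l, rfl⟩, hl⟩
  rw [map_add, hb0, add_zero]
  refine (hu.pow (m + n)).mul_left_cancel ?_
  rw [← map_pow, ← map_mul, ← ha, map_mul, ← hc, pow_add, map_mul]
  ring

variable (R : Type u) [CommRing R] [Algebra A R] [Module.Flat A R]

include hq htor in
theorem tensor_injective (r : R)
    (h₁ : (Algebra.TensorProduct.includeLeft : R →ₐ[A] R ⊗[A] Localization.Away t) r = 0)
    (h₂ : (Algebra.TensorProduct.includeLeft : R →ₐ[A] R ⊗[A] A') r = 0) : r = 0 := by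
  let f : A →ₗ[A] Localization.Away t × A' := (Algebra.linearMap A _).prod (Algebra.linearMap A _)
  have hf : Function.Injective f := by
    rw [injective_iff_map_eq_zero]
    exact fun a ha => base_injective t htor a (congrArg Prod.fst ha) (congrArg Prod.snd ha)
  have h := Module.Flat.lTensor_preserves_injective_linearMap (M := R) f hf
  have h0 : f.lTensor R (r ⊗ₜ[A] (1 : A)) = 0 := by
    refine (TensorProduct.prodRight A A R (Localization.Away t) A').injective ?_
    rw [LinearMap.lTensor_tmul, map_zero]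
    have e : f 1 = (1, 1) := Prod.ext (map_one (algebraMap A _)) (map_one (algebraMap A _))
    rw [e, TensorProduct.prodRight_tmul]
    exact Prod.ext h₁ h₂
  have := h (h0.trans (map_zero _).symm)
  simpa using congrArg (TensorProduct.rid A R) this

include hq htor in
theorem tensor_exists (x : R ⊗[A] Localization.Away t) (y : R ⊗[A] A')
    (h : Algebra.TensorProduct.map (AlgHom.id A R) (awayAlgHom t) x =
      Algebra.TensorProduct.map (AlgHom.id A R) (incAlgHom t) y) :
    ∃ r : R, (Algebra.TensorProduct.includeLeft : R →ₐ[A] R ⊗[A] Localization.Away t) r = x ∧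
      (Algebra.TensorProduct.includeLeft : R →ₐ[A] R ⊗[A] A') r = y := by
  let f : A →ₗ[A] Localization.Away t × A' := (Algebra.linearMap A _).prod (Algebra.linearMap A _)
  let g : Localization.Away t × A' →ₗ[A] Localization.Away (algebraMap A A' t) :=
    (awayAlgHom (A' := A') t).toLinearMap.comp (LinearMap.fst A _ _) - (incAlgHom t).toLinearMap.comp (LinearMap.snd A _ _)
  have hex : Function.Exact f g := by
    rintro ⟨a, b⟩
    show awayAlgHom t a - incAlgHom t b = 0 ↔ _
    rw [sub_eq_zero]
    constructor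
    · intro hab
      obtain ⟨c, h1, h2⟩ := base_exists t hq htor a b hab
      exact ⟨c, Prod.ext h1 h2⟩
    · rintro ⟨c, hc⟩
      obtain ⟨rfl, rfl⟩ := Prod.ext_iff.1 hc
      show awayAlgHom t (algebraMap A _ c) = incAlgHom t (algebraMap A A' c)
      rw [AlgHom.commutes, AlgHom.commutes]
  let e := TensorProduct.prodRight A A R (Localization.Away t) A'
  have hz : g.lTensor R (e.symm (x, y)) = 0 := by
    have hg : g.lTensor R = (awayAlgHom (A' := A') t).toLinearMap.lTensor R ∘ₗ (LinearMap.fst A _ _) ∘ₗ e.toLinearMap -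
        (incAlgHom t).toLinearMap.lTensor R ∘ₗ (LinearMap.snd A _ _) ∘ₗ e.toLinearMap := by
      refine TensorProduct.ext' fun r ab => ?_
      simp [g, e, TensorProduct.tmul_sub]
    rw [hg]
    simp only [LinearMap.sub_apply, LinearMap.comp_apply, LinearEquiv.coe_coe, LinearEquiv.apply_symm_apply,
      LinearMap.fst_apply, LinearMap.snd_apply]
    exact sub_eq_zero.2 h
  obtain ⟨w, hw⟩ := ((Module.Flat.lTensor_exact R hex) _).1 hz
  refine ⟨TensorProduct.rid A R w, ?_⟩
  obtain ⟨r, rfl⟩ : ∃ r : R, r ⊗ₜ[A] (1 : A) = w := ⟨TensorProduct.rid A R w, by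
    rw [← TensorProduct.rid_symm_apply, LinearEquiv.symm_apply_apply]⟩
  have e1 : f 1 = (1, 1) := Prod.ext (map_one (algebraMap A _)) (map_one (algebraMap A _))
  rw [LinearMap.lTensor_tmul, e1, ← LinearEquiv.symm_apply_apply e ((r ⊗ₜ[A] ((1 : Localization.Away t), (1 : A')))),
    e.symm.injective.eq_iff, TensorProduct.prodRight_tmul] at hw
  rw [TensorProduct.rid_tmul, one_smul]
  exact ⟨congrArg Prod.fst hw, congrArg Prod.snd hw⟩

omit [Module.Flat A R] in
include hq in
theorem exists_prime_over (p : PrimeSpectrum A) :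
    (∃ q : PrimeSpectrum (Localization.Away t), q.comap (algebraMap A _) = p) ∨
      ∃ q : PrimeSpectrum A', q.comap (algebraMap A A') = p := by
  by_cases ht : t ∈ p.asIdeal
  · right
    let θ := RingEquiv.ofBijective _ (hq 1)
    have hle : Ideal.span {t} ^ 1 ≤ p.asIdeal := by
      rw [pow_one, Ideal.span_le, Set.singleton_subset_iff]; exact ht
    haveI : (p.asIdeal.map (Ideal.Quotient.mk (Ideal.span {t} ^ 1))).IsPrime :=
      Ideal.map_isPrime_of_surjective Ideal.Quotient.mk_surjective (by rwa [Ideal.mk_ker])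
    let q₀ : PrimeSpectrum (A ⧸ Ideal.span {t} ^ 1) := ⟨p.asIdeal.map (Ideal.Quotient.mk _), inferInstance⟩
    refine ⟨(q₀.comap θ.symm.toRingHom).comap (Ideal.Quotient.mk _), ?_⟩
    ext a
    show θ.symm (Ideal.Quotient.mk _ (algebraMap A A' a)) ∈ q₀.asIdeal ↔ a ∈ p.asIdeal
    rw [show Ideal.Quotient.mk (Ideal.map (algebraMap A A') (Ideal.span {t} ^ 1)) (algebraMap A A' a) =
      θ (Ideal.Quotient.mk _ a) from rfl, RingEquiv.symm_apply_apply, ← Ideal.mem_comap,
      Ideal.comap_map_of_surjective _ Ideal.Quotient.mk_surjective, ← RingHom.ker_eq_comap_bot, Ideal.mk_ker,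
      sup_eq_left.2 hle]
  · left
    have : p ∈ Set.range (PrimeSpectrum.comap (algebraMap A (Localization.Away t))) := by
      rw [PrimeSpectrum.localization_away_comap_range (Localization.Away t) t]
      exact ht
    exact this

end GrothLib.GlueTors21
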