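import Groth.Agent.Lib.Torsor21.Local
import Mathlib

/-!
# An affine flat covering on which a torsor is quasi-affine
-/

set_option autoImplicit false

universe u

open CategoryTheory CategoryTheory.Limits MonoidalCategory CartesianMonoidalCategory AlgebraicGeometry

namespace GrothLib.GlueTors21

theorem exists_cover_quasiAffine {S : Scheme.{u}} [IsAffine S] {G X : Over S} [GrpObj G] [G.left.IsQuasiAffine]
    {a : AlgGrp.Action G X} (ha : NonAbH1.IsTorsorFor Scheme.fpqcPrecoverage a) :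
    ∃ (T : Scheme.{u}) (_ : IsAffine T) (c : T ⟶ S), Flat c ∧ Surjective c ∧ QuasiCompact c ∧
      (pullback X.hom c).IsQuasiAffine := by
  obtain ⟨κ, U, g, hg, ⟨s⟩⟩ := Torsor21.exists_sections ha
  obtain ⟨hqc, hflat, -⟩ := FpqcCov.quasiCompactCover_and_flat g hg
  obtain ⟨n, idx, V, hV, heq⟩ := QuasiCompactCover.exists_isAffineOpen_of_isCompact
    (PreZeroHypercover.mk κ U g) (U := ⊤) isCompact_univ
  let Y : ULift.{u} (Fin n) → Scheme.{u} := fun j => (V j.down : Scheme.{u})
  haveI : ∀ j, IsAffine (Y j) := fun j => hV j.down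
  let c : ∐ Y ⟶ S := Sigma.desc fun j => (V j.down).ι ≫ g (idx j.down)
  haveI : Flat c := IsZariskiLocalAtSource.sigmaDesc fun j => by
    haveI : Flat (g (idx j.down)) := hflat _
    exact (inferInstanceAs (Flat ((V j.down).ι ≫ g (idx j.down))))
  haveI : Surjective c := by
    refine ⟨fun x => ?_⟩
    have hx : x ∈ ((⊤ : S.Opens) : Set S) := trivial
    rw [← heq] at hx
    obtain ⟨j, v, hv, rfl⟩ := Set.mem_iUnion.1 hx
    obtain ⟨w, rfl⟩ : ∃ w, (V j).ι w = v := (Set.ext_iff.1 (Scheme.Opens.range_ι (V j)) v).2 hv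
    refine ⟨Sigma.ι Y ⟨j⟩ w, ?_⟩
    rw [← Scheme.Hom.comp_apply, Sigma.ι_desc]
    rfl
  let σ : Over.mk c ⟶ X := Over.homMk (Sigma.desc fun j => (V j.down).ι ≫ (s (idx j.down)).left) (by
    refine Sigma.hom_ext _ _ fun j => ?_
    show Sigma.ι Y j ≫ Sigma.desc _ ≫ X.hom = Sigma.ι Y j ≫ c
    rw [Sigma.ι_desc_assoc, Sigma.ι_desc, Category.assoc, Over.w]
    rfl)
  haveI : IsAffineHom c := isAffineHom_of_isAffine c
  refine ⟨∐ Y, inferInstance, c, inferInstance, inferInstance, inferInstance, ?_⟩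
  haveI := Torsor21.isIso_triv ha.1 σ
  let e := lift ((G ◁ σ) ≫ a.act) (snd G (Over.mk c))
  haveI : IsIso e.left := inferInstanceAs (IsIso ((Over.forget S).map e))
  haveI : IsAffineHom (pullback.fst G.hom c) := MorphismProperty.pullback_fst _ _ inferInstance
  haveI : (pullback G.hom c).IsQuasiAffine := Scheme.IsQuasiAffine.of_isAffineHom (pullback.fst G.hom c)
  let e' : pullback G.hom c ⟶ pullback X.hom c := e.left
  haveI : IsIso e' := inferInstanceAs (IsIso e.left)
  exact Scheme.IsQuasiAffine.of_isAffineHom (inv e')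

end GrothLib.GlueTors21
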