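import Groth.Agent.GlueTors21.Alg
import Mathlib

/-!
# Glueing morphisms along a square of base schemes
-/

set_option autoImplicit false
set_option maxHeartbeats 800000

universe u

open CategoryTheory CategoryTheory.Limits AlgebraicGeometry
open scoped TensorProduct

noncomputable section

namespace GrothLib.GlueTors21

section Abstract

variable {S S₁ S₂ S₃ : Scheme.{u}} (j₁ : S₁ ⟶ S) (j₂ : S₂ ⟶ S) (u₁ : S₃ ⟶ S₁) (u₂ : S₃ ⟶ S₂)
  (h : u₁ ≫ j₁ = u₂ ≫ j₂)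

/-- The restriction to the first piece. -/
def pm₁ {Z : Scheme.{u}} (q : Z ⟶ S) : pullback q (u₁ ≫ j₁) ⟶ pullback q j₁ :=
  pullback.lift (pullback.fst _ _) (pullback.snd _ _ ≫ u₁) (by rw [pullback.condition, Category.assoc])

/-- The restriction to the second piece. -/
def pm₂ {Z : Scheme.{u}} (q : Z ⟶ S) : pullback q (u₁ ≫ j₁) ⟶ pullback q j₂ :=
  pullback.lift (pullback.fst _ _) (pullback.snd _ _ ≫ u₂) (by rw [pullback.condition, Category.assoc, h])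

theorem pm₁_fst {Z : Scheme.{u}} (q : Z ⟶ S) : pm₁ j₁ u₁ q ≫ pullback.fst q j₁ = pullback.fst _ _ :=
  pullback.lift_fst _ _ _

theorem pm₂_fst {Z : Scheme.{u}} (q : Z ⟶ S) : pm₂ j₁ j₂ u₁ u₂ h q ≫ pullback.fst q j₂ = pullback.fst _ _ :=
  pullback.lift_fst _ _ _

/-- Morphisms glue at one source. -/
def GluesAt (W : Scheme.{u}) {Z : Scheme.{u}} (q : Z ⟶ S) : Prop :=
  ∀ (f₁ : pullback q j₁ ⟶ W) (f₂ : pullback q j₂ ⟶ W), pm₁ j₁ u₁ q ≫ f₁ = pm₂ j₁ j₂ u₁ u₂ h q ≫ f₂ →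
    ∃! f : Z ⟶ W, pullback.fst q j₁ ≫ f = f₁ ∧ pullback.fst q j₂ ≫ f = f₂

/-- Morphisms glue at every flat source. -/
def Glues (W : Scheme.{u}) : Prop :=
  ∀ ⦃Z : Scheme.{u}⦄ (q : Z ⟶ S), Flat q → GluesAt j₁ j₂ u₁ u₂ h W q

variable {j₁ j₂ u₁ u₂ h}

theorem GluesAt.hom_ext {W Z : Scheme.{u}} {q : Z ⟶ S} (hg : GluesAt j₁ j₂ u₁ u₂ h W q) {f f' : Z ⟶ W}
    (h1 : pullback.fst q j₁ ≫ f = pullback.fst q j₁ ≫ f') (h2 : pullback.fst q j₂ ≫ f = pullback.fst q j₂ ≫ f') :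
    f = f' := by
  obtain ⟨g, -, hu⟩ := hg (pullback.fst q j₁ ≫ f') (pullback.fst q j₂ ≫ f')
    (by rw [← Category.assoc, ← Category.assoc, pm₁_fst, pm₂_fst])
  rw [hu f ⟨h1, h2⟩, hu f' ⟨rfl, rfl⟩]

/-- Restriction of the pieces along a morphism of sources. -/
def res {Z' Z : Scheme.{u}} (g : Z' ⟶ Z) (q : Z ⟶ S) {T : Scheme.{u}} (j : T ⟶ S) :
    pullback (g ≫ q) j ⟶ pullback q j :=
  pullback.lift (pullback.fst _ _ ≫ g) (pullback.snd _ _) (by rw [Category.assoc, pullback.condition])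

theorem res_fst {Z' Z : Scheme.{u}} (g : Z' ⟶ Z) (q : Z ⟶ S) {T : Scheme.{u}} (j : T ⟶ S) :
    res g q j ≫ pullback.fst q j = pullback.fst _ _ ≫ g := pullback.lift_fst _ _ _

theorem res_compat {W Z' Z : Scheme.{u}} (g : Z' ⟶ Z) (q : Z ⟶ S) (f₁ : pullback q j₁ ⟶ W) (f₂ : pullback q j₂ ⟶ W)
    (hf : pm₁ j₁ u₁ q ≫ f₁ = pm₂ j₁ j₂ u₁ u₂ h q ≫ f₂) :
    pm₁ j₁ u₁ (g ≫ q) ≫ res g q j₁ ≫ f₁ = pm₂ j₁ j₂ u₁ u₂ h (g ≫ q) ≫ res g q j₂ ≫ f₂ := by
  have e1 : pm₁ j₁ u₁ (g ≫ q) ≫ res g q j₁ = res g q (u₁ ≫ j₁) ≫ pm₁ j₁ u₁ q := by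
    apply pullback.hom_ext <;> simp only [pm₁, res, Category.assoc, pullback.lift_fst, pullback.lift_snd, pullback.lift_fst_assoc, pullback.lift_snd_assoc]
  have e2 : pm₂ j₁ j₂ u₁ u₂ h (g ≫ q) ≫ res g q j₂ = res g q (u₁ ≫ j₁) ≫ pm₂ j₁ j₂ u₁ u₂ h q := by
    apply pullback.hom_ext <;> simp only [pm₂, res, Category.assoc, pullback.lift_fst, pullback.lift_snd, pullback.lift_fst_assoc, pullback.lift_snd_assoc]
  rw [← Category.assoc, e1, ← Category.assoc, e2, Category.assoc, Category.assoc, hf]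

theorem GluesAt.of_iso {W Z' Z : Scheme.{u}} (e : Z' ≅ Z) (q : Z ⟶ S) (hg : GluesAt j₁ j₂ u₁ u₂ h W (e.hom ≫ q)) :
    GluesAt j₁ j₂ u₁ u₂ h W q := by
  intro f₁ f₂ hf
  obtain ⟨f, ⟨hf1, hf2⟩, huniq⟩ := hg _ _ (res_compat e.hom q f₁ f₂ hf)
  have hi : ∀ {T : Scheme.{u}} (j : T ⟶ S), ∃ i : pullback q j ⟶ pullback (e.hom ≫ q) j,
      i ≫ res e.hom q j = 𝟙 _ ∧ i ≫ pullback.fst (e.hom ≫ q) j = pullback.fst q j ≫ e.inv := fun j =>
    ⟨pullback.lift (pullback.fst _ _ ≫ e.inv) (pullback.snd _ _) (by simp [pullback.condition]),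
      by apply pullback.hom_ext <;> simp only [res, Category.assoc, Category.id_comp, Iso.inv_hom_id, Category.comp_id, pullback.lift_fst, pullback.lift_snd, pullback.lift_fst_assoc], pullback.lift_fst _ _ _⟩
  refine ⟨e.inv ≫ f, ⟨?_, ?_⟩, fun g hg' => ?_⟩
  · obtain ⟨i, hi1, hi2⟩ := hi j₁
    rw [← Category.assoc, ← hi2, Category.assoc, hf1, ← Category.assoc, hi1, Category.id_comp]
  · obtain ⟨i, hi1, hi2⟩ := hi j₂
    rw [← Category.assoc, ← hi2, Category.assoc, hf2, ← Category.assoc, hi1, Category.id_comp]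
  · rw [Iso.eq_inv_comp]
    refine huniq _ ⟨?_, ?_⟩ <;> rw [← Category.assoc, ← res_fst, Category.assoc]
    · rw [hg'.1]
    · rw [hg'.2]

theorem overlap {W V Z' Z'' Z : Scheme.{u}} (a : V ⟶ Z') (b : V ⟶ Z'') (g : Z' ⟶ Z) (g' : Z'' ⟶ Z)
    (hab : a ≫ g = b ≫ g') {q : Z ⟶ S} {T : Scheme.{u}} (j : T ⟶ S) (F : pullback q j ⟶ W) (f : Z' ⟶ W) (f' : Z'' ⟶ W)
    (hf : pullback.fst (g ≫ q) j ≫ f = res g q j ≫ F) (hf' : pullback.fst (g' ≫ q) j ≫ f' = res g' q j ≫ F) :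
    pullback.fst ((a ≫ g) ≫ q) j ≫ a ≫ f = pullback.fst ((a ≫ g) ≫ q) j ≫ b ≫ f' := by
  let x : pullback ((a ≫ g) ≫ q) j ⟶ pullback (g ≫ q) j :=
    pullback.lift (pullback.fst _ _ ≫ a) (pullback.snd _ _) (by
      simpa only [Category.assoc] using pullback.condition (f := (a ≫ g) ≫ q) (g := j))
  let y : pullback ((a ≫ g) ≫ q) j ⟶ pullback (g' ≫ q) j :=
    pullback.lift (pullback.fst _ _ ≫ b) (pullback.snd _ _) (by
      have c := pullback.condition (f := (a ≫ g) ≫ q) (g := j)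
      simp only [Category.assoc, reassoc_of% hab] at c ⊢
      exact c)
  have e : x ≫ res g q j = y ≫ res g' q j := by
    apply pullback.hom_ext <;>
      simp only [x, y, res, hab, Category.assoc, pullback.lift_fst, pullback.lift_snd, pullback.lift_fst_assoc]
  calc pullback.fst ((a ≫ g) ≫ q) j ≫ a ≫ f = x ≫ pullback.fst (g ≫ q) j ≫ f := by
        simp only [x, pullback.lift_fst_assoc, Category.assoc]
    _ = x ≫ res g q j ≫ F := by rw [hf]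
    _ = y ≫ res g' q j ≫ F :=
      (Category.assoc _ _ _).symm.trans ((congrArg (· ≫ F) e).trans (Category.assoc _ _ _))
    _ = y ≫ pullback.fst (g' ≫ q) j ≫ f' := by rw [hf']
    _ = _ := by simp only [y, pullback.lift_fst_assoc, Category.assoc]

/-- Glueing is local on the source. -/
theorem glues_of_affine {W : Scheme.{u}}
    (hW : ∀ ⦃Z : Scheme.{u}⦄ (q : Z ⟶ S), IsAffine Z → Flat q → GluesAt j₁ j₂ u₁ u₂ h W q) :
    Glues j₁ j₂ u₁ u₂ h W := by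
  have huniq : ∀ ⦃Z : Scheme.{u}⦄ (q : Z ⟶ S), Flat q → ∀ f f' : Z ⟶ W,
      pullback.fst q j₁ ≫ f = pullback.fst q j₁ ≫ f' → pullback.fst q j₂ ≫ f = pullback.fst q j₂ ≫ f' → f = f' := by
    intro Z q hq f f' h1 h2
    haveI := hq
    refine Z.affineCover.hom_ext _ _ fun i => (hW (Z.affineCover.f i ≫ q) inferInstance inferInstance).hom_ext ?_ ?_
    · rw [← Category.assoc, ← res_fst, Category.assoc, h1, ← Category.assoc, ← Category.assoc, res_fst]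
    · rw [← Category.assoc, ← res_fst, Category.assoc, h2, ← Category.assoc, ← Category.assoc, res_fst]
  intro Z q hq f₁ f₂ hf
  haveI := hq
  let 𝒰 := Z.affineCover
  have key : ∀ i, ∃ f : 𝒰.X i ⟶ W, pullback.fst (𝒰.f i ≫ q) j₁ ≫ f = res (𝒰.f i) q j₁ ≫ f₁ ∧
      pullback.fst (𝒰.f i ≫ q) j₂ ≫ f = res (𝒰.f i) q j₂ ≫ f₂ := fun i =>
    (hW (𝒰.f i ≫ q) inferInstance inferInstance _ _ (res_compat (𝒰.f i) q f₁ f₂ hf)).exists
  choose f hf1 hf2 using key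
  have hglue : ∀ i i', pullback.fst (𝒰.f i) (𝒰.f i') ≫ f i = pullback.snd (𝒰.f i) (𝒰.f i') ≫ f i' := by
    intro i i'
    refine huniq ((pullback.fst (𝒰.f i) (𝒰.f i') ≫ 𝒰.f i) ≫ q) inferInstance _ _ ?_ ?_
    · exact overlap _ _ _ _ pullback.condition j₁ f₁ (f i) (f i') (hf1 i) (hf1 i')
    · exact overlap _ _ _ _ pullback.condition j₂ f₂ (f i) (f i') (hf2 i) (hf2 i')
  let F := 𝒰.glueMorphisms f hglue
  have hF : ∀ i, 𝒰.f i ≫ F = f i := fun i => 𝒰.ι_glueMorphisms f hglue i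
  have hcov : ∀ {T : Scheme.{u}} (j : T ⟶ S) (x y : pullback q j ⟶ W),
      (∀ i, res (𝒰.f i) q j ≫ x = res (𝒰.f i) q j ≫ y) → x = y := fun {T} j x y hxy =>
    Scheme.Cover.hom_ext (Scheme.Pullback.openCoverOfLeft 𝒰 q j) _ _ fun i => by
      have e : (Scheme.Pullback.openCoverOfLeft 𝒰 q j).f i = res (𝒰.f i) q j := by
        apply pullback.hom_ext <;>
          simp only [Scheme.Pullback.openCoverOfLeft_f, pullback.map, res, pullback.lift_fst, pullback.lift_snd,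
            Category.comp_id]
      rw [e]
      exact hxy i
  have hF1 : pullback.fst q j₁ ≫ F = f₁ := hcov j₁ _ _ fun i => by
    rw [← hf1 i, ← hF i, ← Category.assoc, res_fst, Category.assoc]
  have hF2 : pullback.fst q j₂ ≫ F = f₂ := hcov j₂ _ _ fun i => by
    rw [← hf2 i, ← hF i, ← Category.assoc, res_fst, Category.assoc]
  exact ⟨F, ⟨hF1, hF2⟩, fun g hg => huniq q hq g F (hg.1.trans hF1.symm) (hg.2.trans hF2.symm)⟩

end Abstract

end GrothLib.GlueTors21
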