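import Groth.Agent.GlueTors21.Quasi
import Groth.Agent.GlueTors21.Cover
import Groth.Agent.Lib.AlgSp.FppfDescent
import Groth.Prelude.Def_ActBC
import Mathlib

/-!
# Glueing isomorphisms of torsors
-/

set_option autoImplicit false
set_option maxHeartbeats 1600000
set_option backward.isDefEq.respectTransparency false

universe u

open CategoryTheory CategoryTheory.Limits MonoidalCategory CartesianMonoidalCategory AlgebraicGeometry

noncomputable section

namespace GrothLib.GlueTors21

theorem pullback_map_fst {S S' : Scheme.{u}} (f : S' ⟶ S) {X Y : Over S} (g : X ⟶ Y) :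
    ((Over.pullback f).map g).left ≫ pullback.fst Y.hom f = pullback.fst X.hom f ≫ g.left :=
  pullback.lift_fst _ _ _

theorem pullback_hom_ext {S S' : Scheme.{u}} (f : S' ⟶ S) {Z : Over S'} {Y : Over S} {g g' : Z ⟶ (Over.pullback f).obj Y}
    (h : g.left ≫ pullback.fst Y.hom f = g'.left ≫ pullback.fst Y.hom f) : g = g' :=
  Over.OverMorphism.ext (pullback.hom_ext h ((Over.w g).trans (Over.w g').symm))

variable {A A' : Type u} [CommRing A] [CommRing A'] [Algebra A A'] {t : A}
  (hq : ∀ m : ℕ, Function.Bijective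
    (Ideal.quotientMap (Ideal.map (algebraMap A A') (Ideal.span {t} ^ m)) (algebraMap A A') Ideal.le_comap_map))
  (htor : ∀ a' : A', (∃ m : ℕ, algebraMap A A' t ^ m * a' = 0) →
    ∃! a : A, (∃ m : ℕ, t ^ m * a = 0) ∧ algebraMap A A' a = a')
  (h : uU A A' t ≫ jU A t = uF A A' t ≫ jF A A')
  {G P P' : Over (Spec (CommRingCat.of A))} [GrpObj G] [Flat G.hom] [G.left.IsQuasiAffine]
  {a : AlgGrp.Action G P} {a' : AlgGrp.Action G P'}
  (ha : NonAbH1.IsTorsorFor Scheme.fpqcPrecoverage a) (ha' : NonAbH1.IsTorsorFor Scheme.fpqcPrecoverage a')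
  (αU : NonAbH1.EquivIso (a.bc (jU A t)) (a'.bc (jU A t)))
  (αF : NonAbH1.EquivIso (a.bc (jF A A')) (a'.bc (jF A A')))
  (hagree : (NonAbH1.EquivIso.bc (uU A A' t) αU).iso.hom ≫ (ActBC.bcCompIso (uU A A' t) (jU A t) P' h).hom =
    (ActBC.bcCompIso (uU A A' t) (jU A t) P h).hom ≫ (ActBC.bcCompIso (uF A A' t) (jF A A') P rfl).inv ≫
      (NonAbH1.EquivIso.bc (uF A A' t) αF).iso.hom ≫ (ActBC.bcCompIso (uF A A' t) (jF A A') P' rfl).hom)

include hq htor ha ha' hagree in
theorem existsUnique_glue :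
    ∃! α : NonAbH1.EquivIso a a', (NonAbH1.EquivIso.bc (jU A t) α).iso = αU.iso ∧
      (NonAbH1.EquivIso.bc (jF A A') α).iso = αF.iso := by
  haveI : MorphismProperty.DescendsAlong @Flat (@Surjective ⊓ @Flat ⊓ @QuasiCompact : MorphismProperty Scheme.{u}) :=
    HasRingHomProperty.descendsAlong_flat (P := @Flat) GrothLib.AlgSp.codescendsAlong_flat
  haveI : Flat P.hom := Torsor21.property @Flat ha inferInstance
  obtain ⟨T, _, c, _, _, _, _⟩ := exists_cover_quasiAffine ha'
  let f₁ : pullback P.hom (jU A t) ⟶ P'.left := αU.iso.hom.left ≫ pullback.fst P'.hom (jU A t)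
  let f₂ : pullback P.hom (jF A A') ⟶ P'.left := αF.iso.hom.left ≫ pullback.fst P'.hom (jF A A')
  have hf₁ : f₁ ≫ P'.hom = pullback.fst _ _ ≫ P.hom := by
    have hw : αU.iso.hom.left ≫ pullback.snd P'.hom (jU A t) = pullback.snd P.hom (jU A t) := Over.w αU.iso.hom
    rw [Category.assoc, pullback.condition, ← Category.assoc, hw, pullback.condition]
  have hf₂ : f₂ ≫ P'.hom = pullback.fst _ _ ≫ P.hom := by
    have hw : αF.iso.hom.left ≫ pullback.snd P'.hom (jF A A') = pullback.snd P.hom (jF A A') := Over.w αF.iso.hom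
    rw [Category.assoc, pullback.condition, ← Category.assoc, hw, pullback.condition]
  have hf : pm₁ (jU A t) (uU A A' t) P.hom ≫ f₁ = pm₂ (jU A t) (jF A A') (uU A A' t) (uF A A' t) h P.hom ≫ f₂ := by
    let CP := ActBC.bcCompIso (uU A A' t) (jU A t) P h
    let DP := ActBC.bcCompIso (uF A A' t) (jF A A') P rfl
    let DP' := ActBC.bcCompIso (uF A A' t) (jF A A') P' rfl
    let K : pullback P.hom (uU A A' t ≫ jU A t) ⟶ pullback (pullback.snd P.hom (jU A t)) (uU A A' t) :=
      pullback.lift (pm₁ (jU A t) (uU A A' t) P.hom) (pullback.snd _ _) (pullback.lift_snd _ _ _)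
    have hag := congrArg (fun z => K ≫ z.left ≫ pullback.fst P'.hom (uF A A' t ≫ jF A A')) hagree
    have hl : ((NonAbH1.EquivIso.bc (uU A A' t) αU).iso.hom ≫ (ActBC.bcCompIso (uU A A' t) (jU A t) P' h).hom).left ≫
        pullback.fst P'.hom (uF A A' t ≫ jF A A') = pullback.fst (pullback.snd P.hom (jU A t)) (uU A A' t) ≫ f₁ := by
      rw [Over.comp_left, Category.assoc, ActBC.bcCompIso_hom_left_fst, ← Category.assoc,
        show (NonAbH1.EquivIso.bc (uU A A' t) αU).iso.hom.left = ((Over.pullback (uU A A' t)).map αU.iso.hom).left from rfl,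
        pullback_map_fst, Category.assoc]
      rfl
    have hr : ((ActBC.bcCompIso (uU A A' t) (jU A t) P h).hom ≫ (ActBC.bcCompIso (uF A A' t) (jF A A') P rfl).inv ≫
        (NonAbH1.EquivIso.bc (uF A A' t) αF).iso.hom ≫ DP'.hom).left ≫ pullback.fst P'.hom (uF A A' t ≫ jF A A') =
        CP.hom.left ≫ DP.inv.left ≫ pullback.fst (pullback.snd P.hom (jF A A')) (uF A A' t) ≫ f₂ := by
      simp only [Over.comp_left, Category.assoc, DP', ActBC.bcCompIso_hom_left_fst]
      rw [show (NonAbH1.EquivIso.bc (uF A A' t) αF).iso.hom.left = ((Over.pullback (uF A A' t)).map αF.iso.hom).left from rfl,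
        ← Category.assoc ((Over.pullback (uF A A' t)).map αF.iso.hom).left, pullback_map_fst]
      simp only [Category.assoc, f₂]
      rfl
    rw [hl, hr, ← Category.assoc K, show K ≫ pullback.fst _ _ = pm₁ (jU A t) (uU A A' t) P.hom from pullback.lift_fst _ _ _] at hag
    rw [hag]
    have e : K ≫ CP.hom.left ≫ DP.inv.left ≫ pullback.fst (pullback.snd P.hom (jF A A')) (uF A A' t) =
        pm₂ (jU A t) (jF A A') (uU A A' t) (uF A A' t) h P.hom := by
      have hDi₁ : DP.inv.left ≫ pullback.fst (pullback.snd P.hom (jF A A')) (uF A A' t) ≫ pullback.fst P.hom (jF A A') =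
          pullback.fst P.hom (uF A A' t ≫ jF A A') := by
        have h0 : DP.hom.left ≫ pullback.fst P.hom (uF A A' t ≫ jF A A') =
            pullback.fst (pullback.snd P.hom (jF A A')) (uF A A' t) ≫ pullback.fst P.hom (jF A A') :=
          ActBC.bcCompIso_hom_left_fst _ _ _ rfl
        have h1 : DP.inv.left ≫ DP.hom.left = 𝟙 _ := by rw [← Over.comp_left, Iso.inv_hom_id]; rfl
        exact (congrArg (DP.inv.left ≫ ·) h0.symm).trans ((Category.assoc _ _ _).symm.trans
          ((congrArg (· ≫ _) h1).trans (Category.id_comp _)))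
      have hDi₂ : DP.inv.left ≫ pullback.snd (pullback.snd P.hom (jF A A')) (uF A A' t) =
          pullback.snd P.hom (uF A A' t ≫ jF A A') := Over.w DP.inv
      have hC₁ : CP.hom.left ≫ pullback.fst P.hom (uF A A' t ≫ jF A A') =
          pullback.fst (pullback.snd P.hom (jU A t)) (uU A A' t) ≫ pullback.fst P.hom (jU A t) :=
        ActBC.bcCompIso_hom_left_fst _ _ _ h
      have hC₂ : CP.hom.left ≫ pullback.snd P.hom (uF A A' t ≫ jF A A') =
          pullback.snd (pullback.snd P.hom (jU A t)) (uU A A' t) := Over.w CP.hom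
      apply pullback.hom_ext
      · simp only [Category.assoc, pm₂, pullback.lift_fst]
        rw [hDi₁, hC₁, ← Category.assoc, show K ≫ pullback.fst _ _ = pm₁ (jU A t) (uU A A' t) P.hom from pullback.lift_fst _ _ _, pm₁_fst]
      · simp only [Category.assoc, pm₂, pullback.lift_snd]
        rw [pullback.condition, reassoc_of% hDi₂, reassoc_of% hC₂, ← Category.assoc K,
          show K ≫ pullback.snd _ _ = pullback.snd P.hom (uU A A' t ≫ jU A t) from pullback.lift_snd _ _ _]
    rw [← e]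
    simp only [Category.assoc]
  obtain ⟨fl, ⟨hfl, hfl₁, hfl₂⟩, hflu⟩ := glue_over hq htor h c P'.hom P.hom f₁ hf₁ f₂ hf₂ hf
  let f : P ⟶ P' := Over.homMk fl hfl
  have hmapU : (Over.pullback (jU A t)).map f = αU.iso.hom :=
    pullback_hom_ext _ ((pullback_map_fst _ f).trans hfl₁)
  have hmapF : (Over.pullback (jF A A')).map f = αF.iso.hom :=
    pullback_hom_ext _ ((pullback_map_fst _ f).trans hfl₂)
  have hpiece : ∀ {R : Scheme.{u}} (j : R ⟶ Spec (CommRingCat.of A)) (α : NonAbH1.EquivIso (a.bc j) (a'.bc j)),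
      (Over.pullback j).map f = α.iso.hom → (Over.pullback j).map (a.act ≫ f) = (Over.pullback j).map ((G ◁ f) ≫ a'.act) := by
    intro R j α hα
    rw [← cancel_epi (Functor.LaxMonoidal.μ (Over.pullback j) G P), Functor.map_comp, Functor.map_comp,
      ← Category.assoc, ← AlgGrp.Action.bc_act, hα, α.comm, AlgGrp.Action.bc_act,
      ← Functor.LaxMonoidal.μ_natural_right_assoc, hα]
  have hequiv : a.act ≫ f = (G ◁ f) ≫ a'.act := by
    haveI : Flat (G ⊗ P).hom := by
      show Flat (pullback.fst G.hom P.hom ≫ G.hom)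
      haveI : Flat (pullback.fst G.hom P.hom) := MorphismProperty.pullback_fst _ _ inferInstance
      infer_instance
    have h₁ := congrArg (fun z => z.left ≫ pullback.fst P'.hom (jU A t)) (hpiece (jU A t) αU hmapU)
    have h₂ := congrArg (fun z => z.left ≫ pullback.fst P'.hom (jF A A')) (hpiece (jF A A') αF hmapF)
    simp only [pullback_map_fst] at h₁ h₂
    have hG : ∀ (x : G ⊗ P ⟶ P'),
        (pullback.fst (G ⊗ P).hom (jU A t) ≫ x.left) ≫ P'.hom = pullback.fst _ _ ≫ (G ⊗ P).hom ∧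
        (pullback.fst (G ⊗ P).hom (jF A A') ≫ x.left) ≫ P'.hom = pullback.fst _ _ ≫ (G ⊗ P).hom := fun x =>
      ⟨by rw [Category.assoc, Over.w], by rw [Category.assoc, Over.w]⟩
    obtain ⟨_, -, hu⟩ := glue_over hq htor h c P'.hom (G ⊗ P).hom
      (pullback.fst (G ⊗ P).hom (jU A t) ≫ (a.act ≫ f).left) (hG _).1
      (pullback.fst (G ⊗ P).hom (jF A A') ≫ (a.act ≫ f).left) (hG _).2
      (by rw [← Category.assoc, ← Category.assoc, pm₁_fst, pm₂_fst])
    exact Over.OverMorphism.ext ((hu (a.act ≫ f).left ⟨Over.w _, rfl, rfl⟩).trans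
      (hu ((G ◁ f) ≫ a'.act).left ⟨Over.w _, h₁.symm, h₂.symm⟩).symm)
  haveI : IsIso f := Torsor21.isIso_of_isEquivariant ha.1 ha ha'.1 f hequiv
  refine ⟨⟨asIso f, hequiv⟩, ⟨Iso.ext hmapU, Iso.ext hmapF⟩, fun β hβ => ?_⟩
  have e : β.iso.hom.left = fl := by
    refine hflu _ ⟨Over.w β.iso.hom, ?_, ?_⟩
    · show _ = αU.iso.hom.left ≫ pullback.fst P'.hom (jU A t)
      rw [← hβ.1]
      exact (pullback_map_fst _ _).symm
    · show _ = αF.iso.hom.left ≫ pullback.fst P'.hom (jF A A')
      rw [← hβ.2]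
      exact (pullback_map_fst _ _).symm
  obtain ⟨βi, βc⟩ := β
  obtain rfl : βi = asIso f := Iso.ext (Over.OverMorphism.ext e)
  rfl

end GrothLib.GlueTors21
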