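import Groth.Agent.GlueTors21.Glue
import Mathlib

/-!
# Glueing morphisms into schemes that are quasi-affine after a flat covering
-/

set_option autoImplicit false
set_option maxHeartbeats 1600000

universe u

open CategoryTheory CategoryTheory.Limits AlgebraicGeometry
open scoped TensorProduct

noncomputable section

namespace GrothLib.GlueTors21

variable (A A' : Type u) [CommRing A] [CommRing A'] [Algebra A A'] (t : A)

/-- The punctured piece. -/
abbrev jU : Spec (CommRingCat.of (Localization.Away t)) ⟶ Spec (CommRingCat.of A) :=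
  Spec.map (CommRingCat.ofHom (algebraMap A (Localization.Away t)))

/-- The formal piece. -/
abbrev jF : Spec (CommRingCat.of A') ⟶ Spec (CommRingCat.of A) :=
  Spec.map (CommRingCat.ofHom (algebraMap A A'))

/-- The overlap in the punctured piece. -/
abbrev uU : Spec (CommRingCat.of (Localization.Away (algebraMap A A' t))) ⟶ Spec (CommRingCat.of (Localization.Away t)) :=
  Spec.map (CommRingCat.ofHom (Localization.awayMap (algebraMap A A') t))

/-- The overlap in the formal piece. -/
abbrev uF : Spec (CommRingCat.of (Localization.Away (algebraMap A A' t))) ⟶ Spec (CommRingCat.of A') :=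
  Spec.map (CommRingCat.ofHom (algebraMap A' (Localization.Away (algebraMap A A' t))))

variable {A A' t}
variable (hq : ∀ m : ℕ, Function.Bijective
    (Ideal.quotientMap (Ideal.map (algebraMap A A') (Ideal.span {t} ^ m)) (algebraMap A A') Ideal.le_comap_map))
  (htor : ∀ a' : A', (∃ m : ℕ, algebraMap A A' t ^ m * a' = 0) →
    ∃! a : A, (∃ m : ℕ, t ^ m * a = 0) ∧ algebraMap A A' a = a')
  (h : uU A A' t ≫ jU A t = uF A A' t ≫ jF A A')

include hq htor in
theorem glues_quasiAffine (W : Scheme.{u}) [W.IsQuasiAffine] :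
    Glues (jU A t) (jF A A') (uU A A' t) (uF A A' t) h W := by
  refine glues_of_affine fun Z q hZ hflat => ?_
  haveI := hZ; haveI := hflat
  refine GluesAt.of_iso Z.isoSpec.symm q ?_
  let R := Γ(Z, ⊤)
  letI : Algebra A R := (Spec.preimage (Z.isoSpec.symm.hom ≫ q)).hom.toAlgebra
  have hq' : Z.isoSpec.symm.hom ≫ q = Spec.map (CommRingCat.ofHom (algebraMap A R)) := by
    rw [RingHom.algebraMap_toAlgebra, CommRingCat.ofHom_hom, Spec.map_preimage]
  haveI : Module.Flat A R := by
    have hf : Flat (Spec.map (CommRingCat.ofHom (algebraMap A R))) := by rw [← hq']; infer_instance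
    exact RingHom.flat_algebraMap_iff.1 (Flat.SpecMap_iff.1 hf)
  rw [hq']
  intro f₁ f₂ hf
  let At := Localization.Away t
  let A'' := Localization.Away (algebraMap A A' t)
  let π₁ := pullbackSpecIso A R At
  let π₂ := pullbackSpecIso A R A'
  let k : Spec (CommRingCat.of (R ⊗[A] A'')) ⟶
      pullback (Spec.map (CommRingCat.ofHom (algebraMap A R))) (uU A A' t ≫ jU A t) :=
    pullback.lift (Spec.map (CommRingCat.ofHom (Algebra.TensorProduct.includeLeft : R →ₐ[A] R ⊗[A] A'').toRingHom))
      (Spec.map (CommRingCat.ofHom (Algebra.TensorProduct.includeRight : A'' →ₐ[A] R ⊗[A] A'').toRingHom)) (by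
      simp only [← Spec.map_comp, ← CommRingCat.ofHom_comp]
      refine congrArg (fun z => Spec.map (CommRingCat.ofHom z)) (RingHom.ext fun a => ?_)
      show (Algebra.TensorProduct.includeLeft : R →ₐ[A] R ⊗[A] A'') (algebraMap A R a) =
        (Algebra.TensorProduct.includeRight : A'' →ₐ[A] R ⊗[A] A'') (awayAlgHom t (algebraMap A At a))
      rw [AlgHom.commutes, AlgHom.commutes, AlgHom.commutes])
  have e₁ : k ≫ pm₁ (jU A t) (uU A A' t) _ = Spec.map (CommRingCat.ofHom
      (Algebra.TensorProduct.map (AlgHom.id A R) (awayAlgHom (A' := A') t)).toRingHom) ≫ π₁.inv := by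
    apply pullback.hom_ext
    · simp only [k, pm₁, Category.assoc, pullback.lift_fst, π₁, pullbackSpecIso_inv_fst, ← Spec.map_comp,
        ← CommRingCat.ofHom_comp]
      refine congrArg (fun z => Spec.map (CommRingCat.ofHom z)) (RingHom.ext fun r => ?_)
      exact ((Algebra.TensorProduct.map_tmul _ _ r (1 : At)).trans (by simp)).symm
    · simp only [k, pm₁, Category.assoc, pullback.lift_snd, pullback.lift_snd_assoc, π₁, pullbackSpecIso_inv_snd,
        ← Spec.map_comp, ← CommRingCat.ofHom_comp]
      refine congrArg (fun z => Spec.map (CommRingCat.ofHom z)) (RingHom.ext fun r => ?_)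
      show (1 : R) ⊗ₜ[A] (Localization.awayMap (algebraMap A A') t r) =
        Algebra.TensorProduct.map (AlgHom.id A R) (awayAlgHom (A' := A') t) ((1 : R) ⊗ₜ[A] r)
      rw [Algebra.TensorProduct.map_tmul, map_one]
      rfl
  have e₂ : k ≫ pm₂ (jU A t) (jF A A') (uU A A' t) (uF A A' t) h _ = Spec.map (CommRingCat.ofHom
      (Algebra.TensorProduct.map (AlgHom.id A R) (incAlgHom t)).toRingHom) ≫ π₂.inv := by
    apply pullback.hom_ext
    · simp only [k, pm₂, Category.assoc, pullback.lift_fst, π₂, pullbackSpecIso_inv_fst, ← Spec.map_comp,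
        ← CommRingCat.ofHom_comp]
      refine congrArg (fun z => Spec.map (CommRingCat.ofHom z)) (RingHom.ext fun r => ?_)
      exact ((Algebra.TensorProduct.map_tmul _ _ r (1 : A')).trans (by simp)).symm
    · simp only [k, pm₂, Category.assoc, pullback.lift_snd, pullback.lift_snd_assoc, π₂, pullbackSpecIso_inv_snd,
        ← Spec.map_comp, ← CommRingCat.ofHom_comp]
      refine congrArg (fun z => Spec.map (CommRingCat.ofHom z)) (RingHom.ext fun r => ?_)
      show (1 : R) ⊗ₜ[A] (algebraMap A' A'' r) =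
        Algebra.TensorProduct.map (AlgHom.id A R) (incAlgHom t) ((1 : R) ⊗ₜ[A] r)
      rw [Algebra.TensorProduct.map_tmul, map_one]
      rfl
  let B := Γ(W, ⊤)
  let b₁ := Spec.preimage (π₁.inv ≫ f₁ ≫ W.toSpecΓ)
  let b₂ := Spec.preimage (π₂.inv ≫ f₂ ≫ W.toSpecΓ)
  have hb : ∀ x : B, Algebra.TensorProduct.map (AlgHom.id A R) (awayAlgHom (A' := A') t) (b₁ x) =
      Algebra.TensorProduct.map (AlgHom.id A R) (incAlgHom t) (b₂ x) := by
    have e : Spec.map (b₁ ≫ CommRingCat.ofHom (Algebra.TensorProduct.map (AlgHom.id A R) (awayAlgHom (A' := A') t)).toRingHom) =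
        Spec.map (b₂ ≫ CommRingCat.ofHom (Algebra.TensorProduct.map (AlgHom.id A R) (incAlgHom t)).toRingHom) := by
      rw [Spec.map_comp, Spec.map_comp, Spec.map_preimage, Spec.map_preimage, ← Category.assoc, ← e₁,
        Category.assoc, ← Category.assoc _ π₂.inv, ← e₂, Category.assoc]
      exact congrArg (fun z => k ≫ z) ((Category.assoc _ _ _).symm.trans ((congrArg (· ≫ W.toSpecΓ) hf).trans (Category.assoc _ _ _)))
    exact fun x => congrArg (fun z => (ConcreteCategory.hom z) x) (Spec.map_injective e)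
  choose g hg₁ hg₂ using fun x => tensor_exists t hq htor R (b₁ x) (b₂ x) (hb x)
  have inj : ∀ r r' : R, (Algebra.TensorProduct.includeLeft : R →ₐ[A] R ⊗[A] At) r =
      (Algebra.TensorProduct.includeLeft : R →ₐ[A] R ⊗[A] At) r' →
      (Algebra.TensorProduct.includeLeft : R →ₐ[A] R ⊗[A] A') r =
      (Algebra.TensorProduct.includeLeft : R →ₐ[A] R ⊗[A] A') r' → r = r' := fun r r' h1 h2 =>
    sub_eq_zero.1 (tensor_injective t hq htor R _ (by rw [map_sub, h1, sub_self]) (by rw [map_sub, h2, sub_self]))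
  let gh : B →+* R :=
    { toFun := g
      map_one' := inj _ _ (by rw [hg₁, map_one, map_one]) (by rw [hg₂, map_one, map_one])
      map_mul' := fun x y => inj _ _ (by rw [hg₁, map_mul, map_mul, hg₁, hg₁]) (by rw [hg₂, map_mul, map_mul, hg₂, hg₂])
      map_zero' := inj _ _ (by rw [hg₁, map_zero, map_zero]) (by rw [hg₂, map_zero, map_zero])
      map_add' := fun x y => inj _ _ (by rw [hg₁, map_add, map_add, hg₁, hg₁]) (by rw [hg₂, map_add, map_add, hg₂, hg₂]) }
  let H : Spec (CommRingCat.of R) ⟶ Spec (CommRingCat.of B) := Spec.map (CommRingCat.ofHom gh)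
  have hH₁ : pullback.fst _ (jU A t) ≫ H = f₁ ≫ W.toSpecΓ := by
    rw [← cancel_epi π₁.inv, ← Category.assoc, pullbackSpecIso_inv_fst]
    rw [← Spec.map_comp]
    refine Eq.trans ?_ (Spec.map_preimage _)
    congr 1
    ext x
    exact hg₁ x
  have hH₂ : pullback.fst _ (jF A A') ≫ H = f₂ ≫ W.toSpecΓ := by
    rw [← cancel_epi π₂.inv, ← Category.assoc, pullbackSpecIso_inv_fst]
    rw [← Spec.map_comp]
    refine Eq.trans ?_ (Spec.map_preimage _)
    congr 1
    ext x
    exact hg₂ x
  have hrange : Set.range H ⊆ Set.range W.toSpecΓ := by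
    rintro _ ⟨p, rfl⟩
    rcases exists_prime_over t hq ((Spec.map (CommRingCat.ofHom (algebraMap A R))) p) with ⟨q₀, hq₀⟩ | ⟨q₀, hq₀⟩
    · obtain ⟨z, hz, -⟩ := Scheme.Pullback.exists_preimage_pullback (f := Spec.map (CommRingCat.ofHom (algebraMap A R)))
        (g := jU A t) p q₀ hq₀.symm
      exact ⟨f₁ z, by rw [← hz, ← Scheme.Hom.comp_apply, ← Scheme.Hom.comp_apply, hH₁]⟩
    · obtain ⟨z, hz, -⟩ := Scheme.Pullback.exists_preimage_pullback (f := Spec.map (CommRingCat.ofHom (algebraMap A R)))
        (g := jF A A') p q₀ hq₀.symm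
      exact ⟨f₂ z, by rw [← hz, ← Scheme.Hom.comp_apply, ← Scheme.Hom.comp_apply, hH₂]⟩
  refine ⟨IsOpenImmersion.lift W.toSpecΓ H hrange, ⟨?_, ?_⟩, fun f' hf' => ?_⟩
  · rw [← cancel_mono W.toSpecΓ, Category.assoc, IsOpenImmersion.lift_fac, hH₁]
  · rw [← cancel_mono W.toSpecΓ, Category.assoc, IsOpenImmersion.lift_fac, hH₂]
  · rw [← cancel_mono W.toSpecΓ, IsOpenImmersion.lift_fac, ← Spec.map_preimage (f' ≫ W.toSpecΓ)]
    congr 1
    ext x
    have k₁ : Spec.map (Spec.preimage (f' ≫ W.toSpecΓ) ≫ CommRingCat.ofHom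
        (Algebra.TensorProduct.includeLeftRingHom : R →+* R ⊗[A] At)) = Spec.map b₁ := by
      rw [Spec.map_comp, Spec.map_preimage, Spec.map_preimage, ← pullbackSpecIso_inv_fst, Category.assoc,
        ← Category.assoc _ f', hf'.1]
    have k₂ : Spec.map (Spec.preimage (f' ≫ W.toSpecΓ) ≫ CommRingCat.ofHom
        (Algebra.TensorProduct.includeLeftRingHom : R →+* R ⊗[A] A')) = Spec.map b₂ := by
      rw [Spec.map_comp, Spec.map_preimage, Spec.map_preimage, ← pullbackSpecIso_inv_fst, Category.assoc,
        ← Category.assoc _ f', hf'.2]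
    exact inj _ (g x) ((congrArg (fun z => (ConcreteCategory.hom z) x) (Spec.map_injective k₁)).trans (hg₁ x).symm)
      ((congrArg (fun z => (ConcreteCategory.hom z) x) (Spec.map_injective k₂)).trans (hg₂ x).symm)

include hq htor in
/-- Glueing into a scheme over the base that is quasi-affine after a flat covering. -/
theorem glue_over {T : Scheme.{u}} [IsAffine T] (c : T ⟶ Spec (CommRingCat.of A)) [Flat c] [Surjective c]
    [QuasiCompact c] {P : Scheme.{u}} (p : P ⟶ Spec (CommRingCat.of A)) [(pullback p c).IsQuasiAffine]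
    {Z : Scheme.{u}} (q : Z ⟶ Spec (CommRingCat.of A)) [Flat q]
    (f₁ : pullback q (jU A t) ⟶ P) (hf₁ : f₁ ≫ p = pullback.fst _ _ ≫ q)
    (f₂ : pullback q (jF A A') ⟶ P) (hf₂ : f₂ ≫ p = pullback.fst _ _ ≫ q)
    (hf : pm₁ (jU A t) (uU A A' t) q ≫ f₁ = pm₂ (jU A t) (jF A A') (uU A A' t) (uF A A' t) h q ≫ f₂) :
    ∃! f : Z ⟶ P, f ≫ p = q ∧ pullback.fst q (jU A t) ≫ f = f₁ ∧ pullback.fst q (jF A A') ≫ f = f₂ := by
  have hW := glues_quasiAffine hq htor h (pullback p c)
  have hT := glues_quasiAffine hq htor h T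
  let pr := pullback.fst q c
  let tc := pullback.snd q c
  haveI : Flat (pr ≫ q) := inferInstance
  have hover₁ : (res pr q (jU A t) ≫ f₁) ≫ p = (pullback.fst (pr ≫ q) (jU A t) ≫ tc) ≫ c := by
    rw [Category.assoc, hf₁, ← Category.assoc, res_fst, Category.assoc, Category.assoc, pullback.condition]
  have hover₂ : (res pr q (jF A A') ≫ f₂) ≫ p = (pullback.fst (pr ≫ q) (jF A A') ≫ tc) ≫ c := by
    rw [Category.assoc, hf₂, ← Category.assoc, res_fst, Category.assoc, Category.assoc, pullback.condition]
  obtain ⟨F, ⟨hF₁, hF₂⟩, -⟩ := hW (pr ≫ q) inferInstance (pullback.lift _ _ hover₁) (pullback.lift _ _ hover₂) (by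
    apply pullback.hom_ext
    · simp only [Category.assoc, pullback.lift_fst]
      exact res_compat pr q f₁ f₂ hf
    · simp only [Category.assoc, pullback.lift_snd]
      rw [← Category.assoc, pm₁_fst, ← Category.assoc, pm₂_fst])
  have hFs : F ≫ pullback.snd p c = tc := by
    refine (hT (pr ≫ q) inferInstance).hom_ext ?_ ?_
    · rw [← Category.assoc, hF₁, pullback.lift_snd]
    · rw [← Category.assoc, hF₂, pullback.lift_snd]
  let F' := F ≫ pullback.fst p c
  have hF'p : F' ≫ p = pr ≫ q := by
    rw [Category.assoc, pullback.condition, ← Category.assoc, hFs, pullback.condition]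
  have hF'₁ : pullback.fst (pr ≫ q) (jU A t) ≫ F' = res pr q (jU A t) ≫ f₁ := by
    rw [← Category.assoc, hF₁, pullback.lift_fst]
  have hF'₂ : pullback.fst (pr ≫ q) (jF A A') ≫ F' = res pr q (jF A A') ≫ f₂ := by
    rw [← Category.assoc, hF₂, pullback.lift_fst]
  let π := pullback.fst pr pr
  let π' := pullback.snd pr pr
  have hdesc : π ≫ F' = π' ≫ F' := by
    have hπ : π ≫ pr = π' ≫ pr := pullback.condition
    have hc₁ : (π ≫ F') ≫ p = (π ≫ tc) ≫ c := by
      rw [Category.assoc, hF'p, Category.assoc, pullback.condition]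
    have hc₂ : (π' ≫ F') ≫ p = (π ≫ tc) ≫ c := by
      rw [Category.assoc, hF'p, Category.assoc, ← pullback.condition (f := q) (g := c), reassoc_of% hπ]
    have key := (hW ((π ≫ pr) ≫ q) inferInstance).hom_ext (f := pullback.lift _ _ hc₁) (f' := pullback.lift _ _ hc₂)
      (by
        apply pullback.hom_ext
        · simp only [Category.assoc, pullback.lift_fst]
          exact overlap π π' pr pr hπ _ f₁ F' F' hF'₁ hF'₁
        · simp only [Category.assoc, pullback.lift_snd])
      (by
        apply pullback.hom_ext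
        · simp only [Category.assoc, pullback.lift_fst]
          exact overlap π π' pr pr hπ _ f₂ F' F' hF'₂ hF'₂
        · simp only [Category.assoc, pullback.lift_snd])
    simpa only [pullback.lift_fst] using congrArg (· ≫ pullback.fst p c) key
  haveI : Flat pr := inferInstance
  haveI : Surjective pr := MorphismProperty.pullback_fst _ _ inferInstance
  haveI : QuasiCompact pr := inferInstance
  haveI : EffectiveEpi pr := inferInstance
  let f := EffectiveEpi.desc pr F' fun g₁ g₂ hg => by
    obtain ⟨l, hl₁, hl₂⟩ : ∃ l, l ≫ π = g₁ ∧ l ≫ π' = g₂ :=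
      ⟨pullback.lift g₁ g₂ hg, pullback.lift_fst _ _ _, pullback.lift_snd _ _ _⟩
    rw [← hl₁, ← hl₂, Category.assoc, Category.assoc, hdesc]
  have hfac : pr ≫ f = F' := EffectiveEpi.fac pr F' _
  have cancel : ∀ {W' : Scheme.{u}} {J : Scheme.{u}} (j : J ⟶ Spec (CommRingCat.of A)) (x y : pullback q j ⟶ W'),
      res pr q j ≫ x = res pr q j ≫ y → x = y := by
    intro W' J j x y hxy
    have hsq : IsPullback (pullback.fst (pr ≫ q) j) (res pr q j) pr (pullback.fst q j) :=
      IsPullback.of_bot (v₂₁ := pullback.snd q j) (v₂₂ := q) (h₃₁ := j)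
        (by rw [show res pr q j ≫ pullback.snd q j = pullback.snd _ _ from pullback.lift_snd _ _ _]
            exact IsPullback.of_hasPullback (pr ≫ q) j)
        (res_fst pr q j).symm (IsPullback.of_hasPullback q j)
    haveI : Flat (res pr q j) := MorphismProperty.of_isPullback hsq inferInstance
    haveI : Surjective (res pr q j) := MorphismProperty.of_isPullback hsq inferInstance
    haveI : QuasiCompact (res pr q j) := MorphismProperty.of_isPullback hsq inferInstance
    exact (cancel_epi (res pr q j)).1 hxy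
  refine ⟨f, ⟨?_, ?_, ?_⟩, fun f' hf' => ?_⟩
  · rw [← cancel_epi pr, ← Category.assoc, hfac, hF'p]
  · refine cancel _ _ _ ?_
    rw [← Category.assoc, res_fst, Category.assoc, hfac, hF'₁]
  · refine cancel _ _ _ ?_
    rw [← Category.assoc, res_fst, Category.assoc, hfac, hF'₂]
  · rw [← cancel_epi pr, hfac]
    have hc : (pr ≫ f') ≫ p = tc ≫ c := by rw [Category.assoc, hf'.1, pullback.condition]
    have key := (hW (pr ≫ q) inferInstance).hom_ext (f := pullback.lift _ _ hc) (f' := F) (by
        apply pullback.hom_ext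
        · rw [Category.assoc, pullback.lift_fst, ← Category.assoc, ← res_fst, Category.assoc, hf'.2.1, Category.assoc]
          exact hF'₁.symm
        · rw [Category.assoc, pullback.lift_snd, Category.assoc, hFs]) (by
        apply pullback.hom_ext
        · rw [Category.assoc, pullback.lift_fst, ← Category.assoc, ← res_fst, Category.assoc, hf'.2.2, Category.assoc]
          exact hF'₂.symm
        · rw [Category.assoc, pullback.lift_snd, Category.assoc, hFs])
    show _ = F ≫ pullback.fst p c
    rw [← key, pullback.lift_fst]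

end GrothLib.GlueTors21
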